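import Mathlib

/-!
# A group with the local data of PSU3(5) has no proper subgroup of index below 50
-/

set_option autoImplicit false

namespace Cfsg.Agent.Lib.MinIndexU35

universe u

variable {G : Type u} [Group G] [Finite G]

/-- The orbit of a Sylow subgroup under a subgroup, for trivial-intersection Sylow subgroups. -/
theorem orbit_modEq {p : ℕ} [Fact p.Prime]
    (hTI : ∀ (x : G), x ≠ 1 → ∀ P Q : Sylow p G, x ∈ (P : Subgroup G) → x ∈ (Q : Subgroup G) → P = Q)
    (H : Subgroup G) (S : Subgroup G) (hSH : S ≤ H) (P : Sylow p G) (hSP : S ≤ P) :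
    ∃ t, Nat.card (MulAction.orbit H P) = 1 + t * Nat.card S := by
  classical
  have hfix : ∀ s : G, s ∈ S → s ≠ 1 → ∀ Q : Sylow p G, s • Q = Q → Q = P := by
    intro s hs hs1 Q hQ
    refine (hTI s hs1 Q P ?_ (hSP hs))
    have hn : s ∈ Subgroup.normalizer ((Q : Subgroup G) : Set G) := Sylow.smul_eq_iff_mem_normalizer.1 hQ
    have hp : IsPGroup p (Subgroup.zpowers s) := P.2.to_le (Subgroup.zpowers_le.2 (hSP hs))
    have h := Q.is_maximal' (IsPGroup.to_sup_of_normal_right' hp Q.2 (Subgroup.zpowers_le.2 hn))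
      le_sup_right
    exact h ▸ Subgroup.mem_sup_left (Subgroup.mem_zpowers s)
  have hP : ∀ s : G, s ∈ S → s • P = P := fun s hs =>
    Sylow.smul_eq_iff_mem_normalizer.2 (Subgroup.le_normalizer (hSP hs))
  let X : Set (Sylow p G) := MulAction.orbit H P \ {P}
  let act : MulAction S X :=
    { smul := fun s x => ⟨(s : G) • x.1, by
        obtain ⟨⟨h, hh⟩, hne⟩ := x.2
        refine ⟨⟨⟨s, hSH s.2⟩ * h, by rw [← hh]; exact mul_smul (⟨(s : G), hSH s.2⟩ : H) h P⟩, fun he => hne ?_⟩
        have := hP _ (S.inv_mem s.2)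
        rw [← Set.mem_singleton_iff.1 he, inv_smul_smul] at this
        exact Set.mem_singleton_iff.2 (this.trans (Set.mem_singleton_iff.1 he))⟩
      one_smul := fun x => Subtype.ext (one_smul G x.1)
      mul_smul := fun s t x => Subtype.ext (mul_smul (s : G) t x.1) }
  have hstab : ∀ x : X, MulAction.stabilizer S x = ⊥ := by
    intro x
    refine (Subgroup.eq_bot_iff_forall _).2 fun s hs => ?_
    by_contra h1
    exact x.2.2 (hfix s s.2 (fun e => h1 (Subtype.ext e)) x.1
      (congrArg Subtype.val (MulAction.mem_stabilizer_iff.1 hs)))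
  have hX : Nat.card X = Nat.card (MulAction.orbitRel.Quotient S X) * Nat.card S := by
    rw [← Nat.card_prod]
    exact Nat.card_congr (MulAction.selfEquivOrbitsQuotientProd hstab)
  refine ⟨Nat.card (MulAction.orbitRel.Quotient S X), ?_⟩
  have hins : MulAction.orbit H P = insert P X := by
    simp [X, MulAction.mem_orbit_self]
  rw [hins, Nat.card_coe_set_eq, Set.ncard_insert_of_notMem (by simp [X]), ← Nat.card_coe_set_eq,
    hX, add_comm]

theorem factorization_five_le {k : ℕ} (hk : k ∣ 126000) (hk0 : k ≠ 0) : k.factorization 5 ≤ 3 := by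
  by_contra h
  have h1 : 5 ^ 4 ∣ k := (pow_dvd_pow 5 (by omega)).trans (Nat.ordProj_dvd k 5)
  exact absurd (h1.trans hk) (by norm_num)

section

variable (hcard : Nat.card G = 126000)
  (hTI : ∀ (x : G), x ≠ 1 → ∀ P Q : Sylow 5 G, x ∈ (P : Subgroup G) → x ∈ (Q : Subgroup G) → P = Q)

include hcard in
theorem card_sylow [Fact (Nat.Prime 5)] (P : Sylow 5 G) : Nat.card P = 125 := by
  rw [P.card_eq_multiplicity, hcard, show (126000 : ℕ) = 5 ^ 3 * 1008 by norm_num,
    Nat.factorization_mul (by norm_num) (by norm_num),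
    Nat.Prime.factorization_pow (by norm_num : Nat.Prime 5)]
  simp [Nat.factorization_eq_zero_of_not_dvd (by norm_num : ¬ 5 ∣ 1008)]

include hcard hTI in
theorem card_normalizer [IsSimpleGroup G] [Fact (Nat.Prime 5)] (P : Sylow 5 G) :
    Nat.card (Subgroup.normalizer ((P : Subgroup G) : Set G)) = 1000 := by
  classical
  obtain ⟨t, ht⟩ := orbit_modEq hTI ⊤ (P : Subgroup G) le_top P le_rfl
  have htop : MulAction.orbit (⊤ : Subgroup G) P = Set.univ := by
    refine Set.eq_univ_of_forall fun Q => ?_
    obtain ⟨g, hg⟩ := MulAction.exists_smul_eq G P Q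
    exact ⟨⟨g, trivial⟩, hg⟩
  rw [htop, Nat.card_univ, card_sylow hcard] at ht
  have h2 : Nat.card (Sylow 5 G) =
      (Subgroup.normalizer ((P : Subgroup G) : Set G)).index := P.card_eq_index_normalizer
  have h3 := Subgroup.card_mul_index (Subgroup.normalizer ((P : Subgroup G) : Set G))
  rw [← h2, hcard, ht] at h3
  have h4 : 125 ∣ Nat.card (Subgroup.normalizer ((P : Subgroup G) : Set G)) := by
    rw [← card_sylow hcard P]
    exact Subgroup.card_dvd_of_le Subgroup.le_normalizer
  obtain ⟨m, hm⟩ := h4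
  rw [hm] at h3 ⊢
  have h5 : (1 + t * 125) ∣ 1008 := ⟨m, by nlinarith⟩
  have h6 : t ≤ 8 := by
    have := Nat.le_of_dvd (by norm_num) h5
    omega
  interval_cases t <;> first | omega | skip
  exfalso
  have hN : Subgroup.normalizer ((P : Subgroup G) : Set G) = ⊤ :=
    Subgroup.eq_top_of_card_eq _ (by rw [hm, hcard]; omega)
  have hn := Subgroup.normalizer_eq_top_iff.1 hN
  rcases hn.eq_bot_or_eq_top with h | h <;>
  · have := card_sylow hcard P
    rw [Nat.card_congr (Equiv.refl _)] at this
    change Nat.card (P : Subgroup G) = 125 at this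
    rw [h] at this
    simp [Subgroup.card_top, hcard] at this

end

/-- Candidates. -/
def okFive (h b a : ℕ) : Bool :=
  h % b == 0 && b % 5 ^ a == 0 && (h / b) % 5 ^ a == 1 % 5 ^ a && decide (h / b ≤ 126)

/-- The divisors of the order of a Borel subgroup. -/
def borelDivs : List ℕ := [1, 2, 4, 5, 8, 10, 20, 25, 40, 50, 100, 125, 200, 250, 500, 1000]

theorem mem_borelDivs : ∀ b < 1001, b ∣ 1000 → b ∈ borelDivs := by decide +kernel

/-- The numerical obstruction. -/
def obstructed (n a : ℕ) : Bool :=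
  !(126000 % n == 0 && 126000 / n % 5 ^ a == 0 && !(126000 / n % 5 ^ (a + 1) == 0)) || a == 0 ||
    borelDivs.all (fun b => !okFive (126000 / n) b a) ||
    (126000 / n % 7 == 0 && (!(126000 / n % 21 == 0) || !(126000 / n / 21 % 7 == 1)) &&
      126000 / n % 5 == 0)

theorem numeric_check :
    (List.range 41).all (fun k => (List.range 4).all fun a => obstructed (k + 9) a) = true := by
  decide +kernel

theorem numeric (n : ℕ) (hn : n < 50) (h9 : 9 ≤ n) (a : ℕ) (ha : a < 4) (hd : n ∣ 126000)
    (h1 : 5 ^ a ∣ 126000 / n) (h2 : ¬ 5 ^ (a + 1) ∣ 126000 / n) :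
    a = 0 ∨ (∀ b, b ∣ 1000 → okFive (126000 / n) b a = false) ∨
      (126000 / n % 7 = 0 ∧ (126000 / n % 21 = 0 → 126000 / n / 21 % 7 ≠ 1) ∧ 5 ∣ 126000 / n) := by
  have h := List.all_eq_true.1 numeric_check (n - 9) (List.mem_range.2 (by omega))
  have h := List.all_eq_true.1 h a (List.mem_range.2 ha)
  rw [show n - 9 + 9 = n by omega] at h
  simp only [obstructed, Bool.or_eq_true, Bool.not_eq_true', Bool.and_eq_true, Bool.and_eq_false_iff,
    beq_iff_eq, beq_eq_false_iff_ne, Bool.not_eq_false', List.all_eq_true] at h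
  rcases h with ((h | h) | h) | ⟨⟨h7, h21⟩, h5⟩
  · exfalso
    rcases h with (h | h) | h
    · exact h (Nat.mod_eq_zero_of_dvd hd)
    · exact h (Nat.mod_eq_zero_of_dvd h1)
    · exact h2 (Nat.dvd_of_mod_eq_zero h)
  · exact Or.inl h
  · exact Or.inr (Or.inl fun b hb => h b (mem_borelDivs b (by
      have := Nat.le_of_dvd (by norm_num) hb; omega) hb))
  · exact Or.inr (Or.inr ⟨h7, fun e => h21.resolve_left fun hne => hne e, Nat.dvd_of_mod_eq_zero h5⟩)

theorem normalizer_seven_dvd (hcard : Nat.card G = 126000)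
    (h7 : ∀ x : G, orderOf x = 7 → Subgroup.centralizer (Subgroup.zpowers x : Set G) = Subgroup.zpowers x)
    (x : G) (hx : orderOf x = 7) :
    Nat.card (Subgroup.normalizer (Subgroup.zpowers x : Set G)) ∣ 21 := by
  haveI : Fact (Nat.Prime 7) := ⟨by norm_num⟩
  set X := Subgroup.zpowers x with hX
  have hXc : Nat.card X = 7 := by rw [hX, Nat.card_zpowers, hx]
  have hf : (Nat.card G).factorization 7 = 1 := by
    rw [hcard, show (126000 : ℕ) = 7 * 18000 by norm_num,
      Nat.factorization_mul (by norm_num) (by norm_num), Nat.Prime.factorization (by norm_num)]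
    simp [Nat.factorization_eq_zero_of_not_dvd (by norm_num : ¬ 7 ∣ 18000)]
  let T : Sylow 7 G := Sylow.ofCard X (by rw [hXc, hf, pow_one])
  have hsyl : Nat.card (Sylow 7 G) % 7 = 1 := by
    have := card_sylow_modEq_one 7 G
    simpa [Nat.ModEq] using this
  have hidx : Nat.card (Subgroup.normalizer (X : Set G)) * Nat.card (Sylow 7 G) = 126000 := by
    rw [← hcard, T.card_eq_index_normalizer]
    exact Subgroup.card_mul_index _
  have hC : (Subgroup.centralizer (X : Set G)).subgroupOf (Subgroup.normalizer (X : Set G)) =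
      X.subgroupOf (Subgroup.normalizer (X : Set G)) := by rw [h7 x hx]
  have he : ((X.subgroupOf (Subgroup.normalizer (X : Set G)))).index ∣ 6 := by
    rw [← hC, ← Subgroup.normalizerMonoidHom_ker X, Subgroup.index_ker]
    refine (Subgroup.card_subgroup_dvd_card _).trans ?_
    haveI : IsCyclic X := isCyclic_of_prime_card hXc
    rw [IsCyclic.card_mulAut, hXc]
    norm_num [Nat.totient_prime]
  have hN := Subgroup.card_mul_index (X.subgroupOf (Subgroup.normalizer (X : Set G)))
  rw [Nat.card_congr (Subgroup.subgroupOfEquivOfLe Subgroup.le_normalizer).toEquiv, hXc] at hN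
  rw [← hN] at hidx ⊢
  generalize (X.subgroupOf (Subgroup.normalizer (X : Set G))).index = e at *
  have he6 := Nat.le_of_dvd (by norm_num) he
  rcases (show e = 0 ∨ e = 1 ∨ e = 2 ∨ e = 3 ∨ e = 4 ∨ e = 5 ∨ e = 6 by omega) with
    rfl | rfl | rfl | rfl | rfl | rfl | rfl <;> first | omega | (norm_num at he) | norm_num

theorem index_ge [IsSimpleGroup G] (hcard : Nat.card G = 126000)
    (hTI : ∀ (x : G), x ≠ 1 → ∀ P Q : Sylow 5 G, x ∈ (P : Subgroup G) → x ∈ (Q : Subgroup G) → P = Q)
    (h7 : ∀ x : G, orderOf x = 7 → Subgroup.centralizer (Subgroup.zpowers x : Set G) = Subgroup.zpowers x)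
    (H : Subgroup G) (hH : H ≠ ⊤) : 50 ≤ H.index := by
  classical
  haveI : Fact (Nat.Prime 5) := ⟨by norm_num⟩
  haveI : Fact (Nat.Prime 7) := ⟨by norm_num⟩
  by_contra hlt
  have hn0 : H.index ≠ 0 := Subgroup.index_ne_zero_of_finite
  have hn1 : H.index ≠ 1 := fun h => hH (Subgroup.index_eq_one.1 h)
  have hdvd : H.index ∣ 126000 := hcard ▸ H.index_dvd_card
  have hh : Nat.card H = 126000 / H.index := by
    rw [← hcard, ← Subgroup.card_mul_index H, Nat.mul_div_cancel _ (Nat.pos_of_ne_zero hn0)]
  have h9 : 9 ≤ H.index := by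
    by_contra h9
    have hker : H.normalCore = ⊥ :=
      (Subgroup.normalCore_normal H).eq_bot_or_eq_top.resolve_right fun e =>
        hH (top_unique (e ▸ Subgroup.normalCore_le H))
    have hinj : Function.Injective (MulAction.toPermHom G (G ⧸ H)) := by
      rw [← MonoidHom.ker_eq_bot_iff, ← hker, Subgroup.normalCore_eq_ker]
    have := Nat.card_le_card_of_injective _ hinj
    rw [hcard, Nat.card_perm, ← Subgroup.index_eq_card] at this
    have := this.trans (Nat.factorial_le (show H.index ≤ 8 by omega))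
    norm_num [Nat.factorial_succ] at this
  set n := H.index with hn
  have ha : (126000 / n).factorization 5 ≤ 3 :=
    factorization_five_le (hh ▸ hcard ▸ H.card_subgroup_dvd_card) (hh ▸ Nat.card_pos.ne')
  set a := (126000 / n).factorization 5 with hadef
  have hne : 126000 / n ≠ 0 := hh ▸ Nat.card_pos.ne'
  have ha1 : 5 ^ a ∣ 126000 / n := Nat.ordProj_dvd _ 5
  have ha2 : ¬ 5 ^ (a + 1) ∣ 126000 / n := Nat.pow_succ_factorization_not_dvd hne (by norm_num)
  -- a Sylow subgroup of `H` and the one of `G` containing it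
  obtain ⟨S₀⟩ : Nonempty (Sylow 5 H) := inferInstance
  set S : Subgroup G := (S₀ : Subgroup H).map H.subtype with hS
  have hScard : Nat.card S = 5 ^ a := by
    rw [hS, ← Nat.card_congr ((S₀ : Subgroup H).equivMapOfInjective _ H.subtype_injective).toEquiv,
      S₀.card_eq_multiplicity, hh]
  obtain ⟨P, hP⟩ := (S₀.2.map H.subtype).exists_le_sylow
  obtain ⟨t, ht⟩ := orbit_modEq hTI H S (Subgroup.map_subtype_le _) P hP
  set b := Nat.card (MulAction.stabilizer H P) with hb
  have hst : Nat.card (MulAction.orbit H P) * b = Nat.card H := by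
    rw [Nat.card_congr (MulAction.orbitEquivQuotientStabilizer H P), hb, mul_comm]
    exact Subgroup.card_mul_index _
  have hmap : (MulAction.stabilizer H P).map H.subtype ≤
      Subgroup.normalizer ((P : Subgroup G) : Set G) := by
    rintro _ ⟨⟨g, hg⟩, hg', rfl⟩
    exact Sylow.smul_eq_iff_mem_normalizer.1 (MulAction.mem_stabilizer_iff.1 hg')
  have hb1000 : b ∣ 1000 := by
    rw [← card_normalizer hcard hTI P, hb,
      Nat.card_congr ((MulAction.stabilizer H P).equivMapOfInjective _ H.subtype_injective).toEquiv]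
    exact Subgroup.card_dvd_of_le hmap
  have hSb : 5 ^ a ∣ b := by
    rw [← hScard, hb,
      Nat.card_congr ((MulAction.stabilizer H P).equivMapOfInjective _ H.subtype_injective).toEquiv]
    refine Subgroup.card_dvd_of_le ?_
    rintro _ ⟨s, hs, rfl⟩
    refine ⟨s, MulAction.mem_stabilizer_iff.2 ?_, rfl⟩
    exact Sylow.smul_eq_iff_mem_normalizer.2 (Subgroup.le_normalizer (hP ⟨s, hs, rfl⟩))
  have horb : Nat.card (MulAction.orbit H P) ≤ 126 := by
    have h1 : Nat.card (MulAction.orbit H P) ≤ Nat.card (Sylow 5 G) :=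
      Nat.card_le_card_of_injective _ Subtype.val_injective
    have h2 : Nat.card (Sylow 5 G) =
      (Subgroup.normalizer ((P : Subgroup G) : Set G)).index := P.card_eq_index_normalizer
    have h3 := Subgroup.card_mul_index (Subgroup.normalizer ((P : Subgroup G) : Set G))
    rw [card_normalizer hcard hTI P, hcard, ← h2] at h3
    omega
  have hok : a ≠ 0 → okFive (126000 / n) b a = true := by
    intro ha0
    have hbpos : 0 < b := Nat.card_pos
    have hdiv : 126000 / n / b = Nat.card (MulAction.orbit H P) := by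
      rw [← hh, ← hst, Nat.mul_div_cancel _ hbpos]
    simp only [okFive, Bool.and_eq_true, beq_iff_eq, decide_eq_true_eq, hdiv]
    refine ⟨⟨⟨?_, Nat.mod_eq_zero_of_dvd hSb⟩, ?_⟩, horb⟩
    · rw [← hh, ← hst, Nat.mul_mod_left]
    · rw [ht, hScard, Nat.add_mul_mod_self_right]
  rcases numeric n (by omega) h9 a (by omega) hdvd ha1 ha2 with h0 | h | ⟨h7d, h7n, h5d⟩
  · have : 5 ∣ 126000 := by norm_num
    have h25 : ¬ 5 ^ 3 ∣ n := fun hd => by have := Nat.le_of_dvd (by omega) hd; omega
    have h5n : ¬ 5 ∣ 126000 / n := by simpa [h0] using ha2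
    have hmul : 126000 / n * n = 126000 := Nat.div_mul_cancel hdvd
    have hc : Nat.Coprime (5 ^ 3) (126000 / n) :=
      Nat.Coprime.pow_left _ ((Nat.Prime.coprime_iff_not_dvd (by norm_num)).2 h5n)
    exact h25 (hc.dvd_of_dvd_mul_left (by rw [hmul]; norm_num))
  · rcases Nat.eq_zero_or_pos a with h0 | h0
    · have h5n : ¬ 5 ∣ 126000 / n := by simpa [h0] using ha2
      have hmul : 126000 / n * n = 126000 := Nat.div_mul_cancel hdvd
      have hc : Nat.Coprime (5 ^ 3) (126000 / n) :=
        Nat.Coprime.pow_left _ ((Nat.Prime.coprime_iff_not_dvd (by norm_num)).2 h5n)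
      have := Nat.le_of_dvd (by omega) (hc.dvd_of_dvd_mul_left (by rw [hmul]; norm_num) : 5 ^ 3 ∣ n)
      omega
    · have := h b hb1000
      rw [hok h0.ne'] at this
      exact Bool.noConfusion this
  · -- the prime seven
    obtain ⟨T₀⟩ : Nonempty (Sylow 7 H) := inferInstance
    have hf7 : (Nat.card H).factorization 7 = 1 := by
      have hle : (Nat.card H).factorization 7 ≤ 1 := by
        by_contra hc
        exact absurd (((pow_dvd_pow 7 (show 2 ≤ (Nat.card H).factorization 7 by omega)).trans
          (Nat.ordProj_dvd _ 7)).trans (hcard ▸ H.card_subgroup_dvd_card)) (by norm_num)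
      have := (Nat.Prime.dvd_iff_one_le_factorization (by norm_num : Nat.Prime 7)
        Nat.card_pos.ne').1 (hh ▸ Nat.dvd_of_mod_eq_zero h7d)
      omega
    have hT : Nat.card T₀ = 7 := by rw [T₀.card_eq_multiplicity, hf7, pow_one]
    obtain ⟨y, hy⟩ : ∃ y : H, (T₀ : Subgroup H) = Subgroup.zpowers y := by
      obtain ⟨y, hy⟩ := (isCyclic_of_prime_card hT).exists_generator
      refine ⟨(y : H), le_antisymm (fun z hz => ?_) (Subgroup.zpowers_le.2 y.2)⟩
      obtain ⟨i, hi⟩ := Subgroup.mem_zpowers_iff.1 (hy ⟨z, hz⟩)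
      exact Subgroup.mem_zpowers_iff.2 ⟨i, by simpa using congrArg Subtype.val hi⟩
    have hyo : orderOf y = 7 := by rw [← Nat.card_zpowers, ← hy]; exact hT
    set N := Subgroup.normalizer ((T₀ : Subgroup H) : Set H) with hN
    set C := Subgroup.centralizer ((T₀ : Subgroup H) : Set H) with hC
    have hCT : C = (T₀ : Subgroup H) := by
      refine le_antisymm (fun z hz => ?_) (Subgroup.le_centralizer_iff.1 ?_)
      · have hzG : (z : G) ∈ Subgroup.centralizer (Subgroup.zpowers (y : G) : Set G) := by
          rw [Subgroup.mem_centralizer_iff]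
          intro w hw
          obtain ⟨i, rfl⟩ := Subgroup.mem_zpowers_iff.1 hw
          have := Subgroup.mem_centralizer_iff.1 hz (y ^ i) (hy ▸ Subgroup.zpow_mem_zpowers y i)
          simpa using congrArg Subtype.val this
        rw [h7 (y : G) (by rw [Subgroup.orderOf_coe, hyo])] at hzG
        obtain ⟨i, hi⟩ := Subgroup.mem_zpowers_iff.1 hzG
        rw [hy]
        exact Subgroup.mem_zpowers_iff.2 ⟨i, Subtype.ext (by simpa using hi)⟩
      · rw [hy]
        intro a ha b hb
        obtain ⟨i, rfl⟩ := Subgroup.mem_zpowers_iff.1 ha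
        obtain ⟨j, rfl⟩ := Subgroup.mem_zpowers_iff.1 hb
        exact (Commute.refl y).zpow_zpow j i |>.eq
    have hsyl : Nat.card (Sylow 7 H) % 7 = 1 := by
      have := card_sylow_modEq_one 7 H
      simpa [Nat.ModEq] using this
    have hidx : Nat.card (Sylow 7 H) * Nat.card N = Nat.card H := by
      rw [T₀.card_eq_index_normalizer, mul_comm]
      exact Subgroup.card_mul_index N
    have hCN : C ≤ N := Subgroup.centralizer_le_normalizer _
    have he : (C.subgroupOf N).index ∣ 6 := by
      have h1 := Subgroup.normalizerMonoidHom_ker (T₀ : Subgroup H)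
      rw [hC, hN, ← h1, Subgroup.index_ker]
      refine (Subgroup.card_subgroup_dvd_card _).trans ?_
      haveI : IsCyclic (T₀ : Subgroup H) := isCyclic_of_prime_card hT
      rw [IsCyclic.card_mulAut, hT]
      norm_num [Nat.totient_prime]
    have hNcard : Nat.card N = 7 * (C.subgroupOf N).index := by
      rw [← Subgroup.card_mul_index (C.subgroupOf N),
        Nat.card_congr (Subgroup.subgroupOfEquivOfLe hCN).toEquiv, hCT, hT]
    have hoddE : (C.subgroupOf N).index ≠ 1 := by
      intro h1
      have hNC : N ≤ C := by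
        rw [← Subgroup.subgroupOf_eq_top, ← Subgroup.index_eq_one]; exact h1
      set K := (MonoidHom.transferSylow T₀ hNC).ker with hK
      have hKc := MonoidHom.ker_transferSylow_isComplement' T₀ hNC
      have hKcard : Nat.card K * 7 = Nat.card H := by rw [← hKc.card_mul, hT]
      obtain ⟨R⟩ : Nonempty (Sylow 5 K) := inferInstance
      have hfr := Sylow.normalizer_sup_eq_top R
      set R' : Subgroup H := (R : Subgroup K).map K.subtype with hR'
      have h5K : 5 ∣ Nat.card K :=
        ((Nat.Coprime.dvd_mul_right (by norm_num : Nat.Coprime 5 7)).1 (by rw [hKcard, hh]; exact h5d))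
      have hR'ne : R'.map H.subtype ≠ ⊥ := by
        rw [hR', Ne, Subgroup.map_eq_bot_iff_of_injective _ H.subtype_injective,
          Subgroup.map_eq_bot_iff_of_injective _ K.subtype_injective]
        intro hb
        have := R.dvd_card_of_dvd_card h5K
        rw [hb, Subgroup.card_bot] at this
        norm_num at this
      obtain ⟨Q, hQ⟩ := ((R.2.map K.subtype).map H.subtype).exists_le_sylow
      have hle : (Subgroup.normalizer (R' : Set H)).map H.subtype ≤
          Subgroup.normalizer ((Q : Subgroup G) : Set G) := by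
        rintro _ ⟨g, hg, rfl⟩
        refine Sylow.smul_eq_iff_mem_normalizer.1 ?_
        obtain ⟨⟨r, hr⟩, hr1⟩ := Subgroup.ne_bot_iff_exists_ne_one.1 hR'ne
        refine hTI r (fun e => hr1 (Subtype.ext e)) _ _ ?_ (hQ hr)
        obtain ⟨r', hr', rfl⟩ := hr
        refine ⟨((g⁻¹ * r' * g : H) : G), hQ ⟨g⁻¹ * r' * g, ?_, rfl⟩, by simp [mul_assoc]⟩
        have := (Subgroup.mem_normalizer_iff.1 (inv_mem hg) r').1 hr'
        rwa [inv_inv] at this
      have h7N : 7 ∣ Nat.card (Subgroup.normalizer (R' : Set H)) := by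
        have hKi : K.index = 7 := by
          have := Subgroup.card_mul_index K
          rw [← hKcard] at this
          exact Nat.eq_of_mul_eq_mul_left Nat.card_pos this
        rw [← hKi, ← Subgroup.relIndex_top_right, ← hfr, Subgroup.relIndex_sup_right]
        exact (K.subgroupOf _).index_dvd_card
      have := h7N.trans ((Nat.card_congr (Subgroup.equivMapOfInjective _ _ H.subtype_injective).toEquiv) ▸
        Subgroup.card_dvd_of_le hle)
      rw [card_normalizer hcard hTI Q] at this
      norm_num at this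
    have h21 : Nat.card N ∣ 21 := by
      refine Dvd.dvd.trans ?_ (normalizer_seven_dvd hcard h7 (y : G) (by rw [Subgroup.orderOf_coe, hyo]))
      rw [Nat.card_congr (N.equivMapOfInjective _ H.subtype_injective).toEquiv]
      refine Subgroup.card_dvd_of_le ?_
      have hmapy : (T₀ : Subgroup H).map H.subtype = Subgroup.zpowers (y : G) := by
        rw [hy, MonoidHom.map_zpowers]; rfl
      rw [← hmapy]
      rintro _ ⟨g, hg, rfl⟩
      rw [Subgroup.mem_normalizer_iff]
      intro z
      constructor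
      · rintro ⟨w, hw, rfl⟩
        exact ⟨g * w * g⁻¹, (Subgroup.mem_normalizer_iff.1 hg w).1 hw, by simp⟩
      · rintro ⟨w, hw, hwz⟩
        refine ⟨g⁻¹ * w * g, (Subgroup.mem_normalizer_iff.1 hg _).2 (by
          rw [show g * (g⁻¹ * w * g) * g⁻¹ = w by group]; exact hw), ?_⟩
        simp only [Subgroup.coe_subtype, Subgroup.coe_mul, Subgroup.coe_inv] at hwz ⊢
        rw [hwz]; group
    rw [hNcard] at h21
    have he3 : (C.subgroupOf N).index = 3 := by
      have h3 : (C.subgroupOf N).index ∣ 3 :=
        Nat.dvd_of_mul_dvd_mul_left (by norm_num : 0 < 7) (by simpa using h21)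
      exact ((Nat.dvd_prime (by norm_num)).1 h3).resolve_left hoddE
    rw [hNcard, he3, hh] at hidx
    have h21d : 126000 / n % 21 = 0 := by
      rw [← hidx, show 7 * 3 = 21 from rfl, Nat.mul_mod_left]
    apply h7n h21d
    rw [← hidx, show 7 * 3 = 21 from rfl, Nat.mul_div_cancel _ (by norm_num : 0 < 21)]
    exact hsyl

end Cfsg.Agent.Lib.MinIndexU35
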