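import Mathlib

/-!
# A field with 25 elements and a certificate for an A7 inside PSU3(5)
-/

set_option autoImplicit false

namespace Cfsg.Agent.Lib.MinIndexU35

/-- The field with 25 elements, numbered `a + 5 * b` for `a + b * w`, `w ^ 2 = 2`. -/
structure TwentyFive where
  /-- The number of an element. -/
  num : Fin 25
deriving DecidableEq

/-- The numbering. -/
def tfEquiv : TwentyFive ≃ Fin 25 := ⟨TwentyFive.num, TwentyFive.mk, fun _ => rfl, fun _ => rfl⟩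

instance tfFintype : Fintype TwentyFive := Fintype.ofEquiv (Fin 25) tfEquiv.symm

/-- Addition. -/
def tfAdd (a b : TwentyFive) : TwentyFive :=
  ⟨Fin.ofNat 25 ((a.num.val % 5 + b.num.val % 5) % 5 + 5 * ((a.num.val / 5 + b.num.val / 5) % 5))⟩

/-- Multiplication. -/
def tfMul (a b : TwentyFive) : TwentyFive :=
  ⟨Fin.ofNat 25 ((a.num.val % 5 * (b.num.val % 5) + 2 * (a.num.val / 5 * (b.num.val / 5))) % 5 +
    5 * ((a.num.val % 5 * (b.num.val / 5) + a.num.val / 5 * (b.num.val % 5)) % 5))⟩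

/-- Negation. -/
def tfNeg (a : TwentyFive) : TwentyFive :=
  ⟨Fin.ofNat 25 ((4 * (a.num.val % 5)) % 5 + 5 * ((4 * (a.num.val / 5)) % 5))⟩

/-- Inversion. -/
def tfInv (a : TwentyFive) : TwentyFive :=
  ⟨![0, 1, 3, 2, 4, 15, 9, 11, 14, 6, 20, 7, 17, 18, 8, 5, 22, 12, 13, 23, 10, 24, 16, 19, 21] a.num⟩

instance tfZero : Zero TwentyFive := ⟨⟨0⟩⟩
instance tfOne : One TwentyFive := ⟨⟨1⟩⟩
instance tfAddInst : Add TwentyFive := ⟨tfAdd⟩
instance tfMulInst : Mul TwentyFive := ⟨tfMul⟩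
instance tfNegInst : Neg TwentyFive := ⟨tfNeg⟩

instance tfCommRing : CommRing TwentyFive where
  add := tfAdd
  mul := tfMul
  neg := tfNeg
  nsmul := nsmulRec
  zsmul := zsmulRec
  add_assoc := by decide +kernel
  zero_add := by decide +kernel
  add_zero := by decide +kernel
  add_comm := by decide +kernel
  neg_add_cancel := by decide +kernel
  left_distrib := by decide +kernel
  right_distrib := by decide +kernel
  zero_mul := by decide +kernel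
  mul_zero := by decide +kernel
  mul_assoc := by decide +kernel
  one_mul := by decide +kernel
  mul_one := by decide +kernel
  mul_comm := by decide +kernel

instance tfField : Field TwentyFive where
  inv := tfInv
  exists_pair_ne := ⟨0, 1, by decide +kernel⟩
  mul_inv_cancel := by decide +kernel
  inv_zero := by decide +kernel
  nnqsmul := _
  qsmul := _

theorem card_twentyFive : Fintype.card TwentyFive = 5 ^ 2 := Fintype.card_congr tfEquiv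

/-- A matrix from numbers. -/
def ofNums (m : Fin 3 → Fin 3 → Fin 25) : Matrix (Fin 3) (Fin 3) TwentyFive :=
  Matrix.of fun i j => ⟨m i j⟩

/-- A vector from numbers. -/
def ofTriple (t : Fin 25 × Fin 25 × Fin 25) : Fin 3 → TwentyFive :=
  ![⟨t.1⟩, ⟨t.2.1⟩, ⟨t.2.2⟩]

/-- The first generator. -/
def matA : Matrix (Fin 3) (Fin 3) TwentyFive := ofNums ![![21, 12, 12], ![5, 4, 23], ![24, 24, 5]]

/-- The second generator. -/
def matB : Matrix (Fin 3) (Fin 3) TwentyFive := ofNums ![![4, 1, 6], ![14, 2, 9], ![7, 17, 14]]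

/-- An element outside. -/
def matG : Matrix (Fin 3) (Fin 3) TwentyFive := ofNums ![![1, 0, 0], ![0, 0, 1], ![0, 4, 0]]

/-- The invariant set of points. -/
def orbitList : List (Fin 25 × Fin 25 × Fin 25) :=
  [(0, 1, 11), (0, 1, 12), (0, 1, 15), (1, 0, 10), (1, 0, 18), (1, 0, 19), (1, 1, 0),
    (1, 1, 12), (1, 1, 18), (1, 2, 6), (1, 2, 9), (1, 2, 11), (1, 2, 14), (1, 2, 15), (1, 3, 5),
    (1, 3, 12), (1, 3, 13), (1, 3, 22), (1, 3, 23), (1, 4, 2), (1, 4, 4), (1, 4, 8), (1, 4, 17),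
    (1, 4, 18), (1, 4, 21), (1, 4, 22), (1, 4, 24), (1, 5, 7), (1, 5, 9), (1, 5, 20), (1, 6, 2),
    (1, 6, 6), (1, 6, 16), (1, 6, 20), (1, 6, 22), (1, 7, 3), (1, 7, 4), (1, 7, 5), (1, 7, 9),
    (1, 7, 12), (1, 7, 17), (1, 7, 20), (1, 7, 24), (1, 8, 0), (1, 8, 2), (1, 8, 3), (1, 9, 4),
    (1, 9, 10), (1, 9, 14), (1, 9, 17), (1, 9, 22), (1, 10, 16), (1, 10, 19), (1, 10, 20),
    (1, 11, 7), (1, 11, 9), (1, 11, 11), (1, 11, 15), (1, 11, 16), (1, 11, 20), (1, 11, 21),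
    (1, 11, 22), (1, 12, 13), (1, 12, 15), (1, 12, 24), (1, 13, 1), (1, 13, 21), (1, 13, 23),
    (1, 14, 0), (1, 14, 7), (1, 14, 23), (1, 15, 1), (1, 15, 19), (1, 15, 24), (1, 16, 6),
    (1, 16, 8), (1, 16, 20), (1, 17, 3), (1, 17, 12), (1, 17, 22), (1, 18, 3), (1, 18, 12),
    (1, 18, 22), (1, 19, 5), (1, 19, 22), (1, 19, 24), (1, 20, 3), (1, 20, 6), (1, 20, 21),
    (1, 21, 2), (1, 21, 8), (1, 21, 9), (1, 21, 10), (1, 21, 12), (1, 22, 6), (1, 22, 13),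
    (1, 22, 20), (1, 23, 2), (1, 23, 11), (1, 23, 12), (1, 24, 1), (1, 24, 12), (1, 24, 14),
    (1, 24, 20), (1, 24, 21)]

/-- The point moved outside. -/
def movedPt : Fin 25 × Fin 25 × Fin 25 := (0, 1, 11)

/-- The images under the first generator. -/
def witA : List ((Fin 25 × Fin 25 × Fin 25) × (Fin 25 × Fin 25 × Fin 25) × Fin 25) :=
  [((0, 1, 11), (1, 6, 6), 17), ((0, 1, 12), (1, 9, 22), 4), ((0, 1, 15), (1, 21, 12), 19),
    ((1, 0, 10), (1, 4, 21), 19), ((1, 0, 18), (1, 2, 14), 9), ((1, 0, 19), (1, 5, 9), 16),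
    ((1, 1, 0), (1, 10, 19), 8), ((1, 1, 12), (1, 10, 20), 20), ((1, 1, 18), (1, 10, 16), 16),
    ((1, 2, 6), (1, 4, 4), 11), ((1, 2, 9), (1, 6, 2), 17), ((1, 2, 11), (1, 24, 12), 20),
    ((1, 2, 14), (1, 16, 6), 1), ((1, 2, 15), (1, 7, 5), 22), ((1, 3, 5), (1, 18, 3), 11),
    ((1, 3, 12), (1, 7, 24), 19), ((1, 3, 13), (1, 22, 20), 1), ((1, 3, 22), (1, 11, 16), 12),
    ((1, 3, 23), (1, 13, 1), 24), ((1, 4, 2), (1, 4, 18), 8), ((1, 4, 4), (1, 9, 10), 2),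
    ((1, 4, 8), (1, 22, 13), 4), ((1, 4, 17), (1, 24, 21), 10), ((1, 4, 18), (1, 21, 9), 22),
    ((1, 4, 21), (1, 14, 7), 12), ((1, 4, 22), (1, 12, 24), 24), ((1, 4, 24), (1, 11, 15), 18),
    ((1, 5, 7), (1, 3, 12), 13), ((1, 5, 9), (1, 21, 2), 7), ((1, 5, 20), (1, 9, 14), 21),
    ((1, 6, 2), (1, 6, 20), 11), ((1, 6, 6), (1, 7, 17), 13), ((1, 6, 16), (1, 15, 24), 6),
    ((1, 6, 20), (1, 2, 9), 8), ((1, 6, 22), (1, 1, 12), 2), ((1, 7, 3), (1, 7, 4), 5),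
    ((1, 7, 4), (1, 14, 0), 17), ((1, 7, 5), (1, 11, 22), 13), ((1, 7, 9), (1, 23, 2), 1),
    ((1, 7, 12), (1, 17, 12), 16), ((1, 7, 17), (0, 1, 11), 13), ((1, 7, 20), (1, 4, 17), 15),
    ((1, 7, 24), (1, 5, 7), 8), ((1, 8, 0), (1, 14, 23), 11), ((1, 8, 2), (1, 23, 12), 5),
    ((1, 8, 3), (1, 5, 20), 17), ((1, 9, 4), (1, 3, 22), 11), ((1, 9, 10), (1, 2, 6), 16),
    ((1, 9, 14), (1, 8, 3), 9), ((1, 9, 17), (1, 7, 12), 24), ((1, 9, 22), (1, 16, 8), 8),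
    ((1, 10, 16), (1, 11, 21), 8), ((1, 10, 19), (1, 16, 20), 14), ((1, 10, 20), (1, 6, 22), 5),
    ((1, 11, 7), (1, 18, 22), 9), ((1, 11, 9), (1, 8, 2), 3), ((1, 11, 11), (1, 20, 6), 6),
    ((1, 11, 15), (1, 19, 24), 8), ((1, 11, 16), (1, 9, 4), 15), ((1, 11, 20), (1, 21, 8), 17),
    ((1, 11, 21), (1, 1, 18), 4), ((1, 11, 22), (1, 2, 15), 11), ((1, 12, 13), (1, 18, 12), 12),
    ((1, 12, 15), (1, 11, 20), 15), ((1, 12, 24), (1, 17, 3), 17), ((1, 13, 1), (1, 17, 22), 7),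
    ((1, 13, 21), (1, 8, 0), 23), ((1, 13, 23), (1, 13, 23), 17), ((1, 14, 0), (1, 7, 3), 7),
    ((1, 14, 7), (1, 0, 10), 10), ((1, 14, 23), (1, 13, 21), 4), ((1, 15, 1), (1, 11, 11), 10),
    ((1, 15, 19), (1, 2, 11), 23), ((1, 15, 24), (1, 23, 11), 7), ((1, 16, 6), (1, 0, 18), 6),
    ((1, 16, 8), (0, 1, 12), 16), ((1, 16, 20), (1, 1, 0), 1), ((1, 17, 3), (1, 4, 22), 3),
    ((1, 17, 12), (1, 9, 17), 14), ((1, 17, 22), (1, 3, 23), 7), ((1, 18, 3), (1, 20, 3), 10),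
    ((1, 18, 12), (1, 22, 6), 21), ((1, 18, 22), (1, 24, 14), 19), ((1, 19, 5), (0, 1, 15), 9),
    ((1, 19, 22), (1, 19, 22), 1), ((1, 19, 24), (1, 4, 24), 20), ((1, 20, 3), (1, 3, 5), 18),
    ((1, 20, 6), (1, 15, 1), 8), ((1, 20, 21), (1, 4, 8), 10), ((1, 21, 2), (1, 0, 19), 18),
    ((1, 21, 8), (1, 12, 15), 14), ((1, 21, 9), (1, 4, 2), 21), ((1, 21, 10), (1, 7, 9), 17),
    ((1, 21, 12), (1, 19, 5), 11), ((1, 22, 6), (1, 12, 13), 2), ((1, 22, 13), (1, 20, 21), 5),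
    ((1, 22, 20), (1, 24, 20), 22), ((1, 23, 2), (1, 21, 10), 12),
    ((1, 23, 11), (1, 6, 16), 23), ((1, 23, 12), (1, 11, 9), 5), ((1, 24, 1), (1, 24, 1), 12),
    ((1, 24, 12), (1, 15, 19), 17), ((1, 24, 14), (1, 11, 7), 11),
    ((1, 24, 20), (1, 3, 13), 16), ((1, 24, 21), (1, 7, 20), 3)]

/-- The images under the second generator. -/
def witB : List ((Fin 25 × Fin 25 × Fin 25) × (Fin 25 × Fin 25 × Fin 25) × Fin 25) :=
  [((0, 1, 11), (1, 17, 12), 16), ((0, 1, 12), (1, 14, 23), 22), ((0, 1, 15), (1, 4, 18), 17),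
    ((1, 0, 10), (1, 24, 14), 13), ((1, 0, 18), (1, 11, 15), 8), ((1, 0, 19), (1, 4, 17), 14),
    ((1, 1, 0), (0, 1, 11), 11), ((1, 1, 12), (1, 3, 23), 21), ((1, 1, 18), (1, 8, 2), 9),
    ((1, 2, 6), (1, 1, 18), 14), ((1, 2, 9), (1, 3, 13), 2), ((1, 2, 11), (1, 5, 7), 16),
    ((1, 2, 14), (1, 11, 16), 9), ((1, 2, 15), (1, 9, 22), 17), ((1, 3, 5), (1, 19, 5), 9),
    ((1, 3, 12), (1, 20, 3), 23), ((1, 3, 13), (1, 14, 7), 4), ((1, 3, 22), (1, 11, 22), 7),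
    ((1, 3, 23), (1, 16, 20), 13), ((1, 4, 2), (1, 2, 11), 10), ((1, 4, 4), (1, 4, 22), 22),
    ((1, 4, 8), (1, 23, 2), 23), ((1, 4, 17), (1, 6, 20), 1), ((1, 4, 18), (1, 13, 23), 7),
    ((1, 4, 21), (1, 12, 15), 2), ((1, 4, 22), (1, 7, 3), 8), ((1, 4, 24), (1, 9, 14), 15),
    ((1, 5, 7), (1, 11, 21), 23), ((1, 5, 9), (1, 7, 20), 5), ((1, 5, 20), (1, 1, 12), 2),
    ((1, 6, 2), (1, 2, 6), 17), ((1, 6, 6), (1, 7, 12), 18), ((1, 6, 16), (1, 8, 3), 2),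
    ((1, 6, 20), (1, 3, 22), 3), ((1, 6, 22), (1, 16, 8), 10), ((1, 7, 3), (1, 11, 9), 24),
    ((1, 7, 4), (0, 1, 15), 19), ((1, 7, 5), (1, 23, 11), 13), ((1, 7, 9), (1, 24, 1), 7),
    ((1, 7, 12), (1, 10, 19), 2), ((1, 7, 17), (1, 3, 12), 9), ((1, 7, 20), (1, 4, 2), 4),
    ((1, 7, 24), (1, 12, 24), 23), ((1, 8, 0), (1, 21, 2), 7), ((1, 8, 2), (1, 2, 9), 19),
    ((1, 8, 3), (1, 23, 12), 20), ((1, 9, 4), (1, 24, 21), 2), ((1, 9, 10), (1, 5, 20), 17),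
    ((1, 9, 14), (1, 21, 12), 11), ((1, 9, 17), (1, 15, 1), 6), ((1, 9, 22), (1, 1, 0), 13),
    ((1, 10, 16), (1, 4, 8), 6), ((1, 10, 19), (1, 7, 17), 24), ((1, 10, 20), (1, 5, 9), 7),
    ((1, 11, 7), (1, 19, 22), 4), ((1, 11, 9), (1, 11, 7), 11), ((1, 11, 11), (0, 1, 12), 4),
    ((1, 11, 15), (1, 17, 3), 1), ((1, 11, 16), (1, 7, 5), 7), ((1, 11, 20), (1, 9, 4), 8),
    ((1, 11, 21), (1, 10, 20), 14), ((1, 11, 22), (1, 13, 1), 15),
    ((1, 12, 13), (1, 19, 24), 13), ((1, 12, 15), (1, 22, 20), 2), ((1, 12, 24), (1, 14, 0), 3),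
    ((1, 13, 1), (1, 20, 6), 18), ((1, 13, 21), (1, 15, 24), 11), ((1, 13, 23), (1, 0, 18), 23),
    ((1, 14, 0), (1, 22, 13), 13), ((1, 14, 7), (1, 6, 2), 2), ((1, 14, 23), (1, 17, 22), 24),
    ((1, 15, 1), (1, 6, 16), 20), ((1, 15, 19), (1, 9, 17), 4), ((1, 15, 24), (1, 3, 5), 6),
    ((1, 16, 6), (1, 9, 10), 3), ((1, 16, 8), (1, 0, 10), 10), ((1, 16, 20), (1, 21, 10), 13),
    ((1, 17, 3), (1, 7, 4), 9), ((1, 17, 12), (1, 8, 0), 12), ((1, 17, 22), (1, 4, 21), 21),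
    ((1, 18, 3), (1, 6, 22), 5), ((1, 18, 12), (1, 4, 4), 13), ((1, 18, 22), (1, 22, 6), 22),
    ((1, 19, 5), (1, 18, 22), 20), ((1, 19, 22), (1, 18, 12), 23), ((1, 19, 24), (1, 18, 3), 5),
    ((1, 20, 3), (1, 20, 21), 12), ((1, 20, 6), (1, 0, 19), 7), ((1, 20, 21), (1, 6, 6), 23),
    ((1, 21, 2), (1, 2, 15), 7), ((1, 21, 8), (1, 4, 24), 15), ((1, 21, 9), (1, 15, 19), 21),
    ((1, 21, 10), (1, 16, 6), 9), ((1, 21, 12), (1, 11, 20), 16), ((1, 22, 6), (1, 24, 20), 9),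
    ((1, 22, 13), (1, 7, 9), 23), ((1, 22, 20), (1, 11, 11), 19), ((1, 23, 2), (1, 2, 14), 9),
    ((1, 23, 11), (1, 10, 16), 12), ((1, 23, 12), (1, 21, 9), 18), ((1, 24, 1), (1, 24, 12), 4),
    ((1, 24, 12), (1, 7, 24), 19), ((1, 24, 14), (1, 12, 13), 1),
    ((1, 24, 20), (1, 13, 21), 16), ((1, 24, 21), (1, 21, 8), 22)]

/-- The word of x7. -/
def word_x7 : List Bool := [true]

/-- The word of x5. -/
def word_x5 : List Bool := [false, true]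

/-- The word of c. -/
def word_c : List Bool := [false]

/-- The word of d. -/
def word_d : List Bool := [true, true, true, false, true, true, true, true]

/-- The word of r4. -/
def word_r4 : List Bool := [false, false, true, false, true, true]

/-- The word of s2. -/
def word_s2 : List Bool := [true, false, false, true, true, true, false, true, false, false, true]

end Cfsg.Agent.Lib.MinIndexU35
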