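import Mathlib
import Cfsg.Prelude.Def_Classical
import Cfsg.Agent.Lib.MinIndexU35.Data
import Cfsg.Agent.Lib.Semisimple.SUBasics
import Cfsg.Agent.Lib.Classical.UnitaryCentre

/-!
# A proper subgroup of PSU3(5) of order divisible by 2520
-/

set_option autoImplicit false

namespace Cfsg.Agent.Lib.MinIndexU35

open Cfsg.Agent.Lib Matrix

/-- Matrices. -/
abbrev M25 := Matrix (Fin 3) (Fin 3) TwentyFive
/-- The special unitary group. -/
abbrev SU25 : Type := ↥(Cfsg.SU 3 TwentyFive 5)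
/-- The projective special unitary group. -/
abbrev PSU25 : Type := Cfsg.PSU 3 TwentyFive 5

/-- Membership data. -/
abbrev Cond (A : M25) : Prop := (A.map fun x => x ^ 5).transpose * A = 1 ∧ A.det = 1

/-- An element from its matrix. -/
def ofMat (A : M25) (h : Cond A) : SU25 :=
  ⟨⟨A, h.2⟩, (Semisimple.mem_SU_iff card_twentyFive _).2 h.1⟩

theorem cond_A : Cond matA := by decide +kernel
theorem cond_B : Cond matB := by decide +kernel
theorem cond_G : Cond matG := by decide +kernel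

/-- The generators. -/
def elA : SU25 := ofMat matA cond_A
/-- The generators. -/
def elB : SU25 := ofMat matB cond_B
/-- The outside element. -/
def elG : SU25 := ofMat matG cond_G

/-- The matrix of a word. -/
def wMat : List Bool → M25
  | [] => 1
  | b :: w => (if b then matB else matA) * wMat w

/-- The element of a word. -/
def wElt : List Bool → SU25
  | [] => 1
  | b :: w => (if b then elB else elA) * wElt w

theorem coe_wElt : ∀ w, (wElt w).1.1 = wMat w
  | [] => rfl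
  | b :: w => by
    show _ * (wElt w).1.1 = _
    rw [coe_wElt w, wMat]
    cases b <;> rfl

theorem coe_pow_eq (x : SU25) (k : ℕ) : (x ^ k).1.1 = x.1.1 ^ k := by
  rw [Subgroup.coe_pow, Matrix.SpecialLinearGroup.coe_pow]

theorem coe_mul_eq (x y : SU25) : (x * y).1.1 = x.1.1 * y.1.1 := rfl

theorem mk_eq_iff (x y : SU25) :
    (QuotientGroup.mk x : PSU25) = QuotientGroup.mk y ↔ ∃ l : TwentyFive, y.1.1 = l • x.1.1 := by
  rw [QuotientGroup.eq]
  constructor
  · intro h
    refine ⟨((x⁻¹ * y : SU25).1.1) 0 0, ?_⟩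
    have e := Classical.center_SU_scalar card_twentyFive _ h 0
    have hy : y.1.1 = x.1.1 * (x⁻¹ * y : SU25).1.1 := by rw [← coe_mul_eq, mul_inv_cancel_left]
    conv_lhs => rw [hy, e]
    ext i j
    simp [Matrix.mul_diagonal, mul_comm]
  · rintro ⟨l, hl⟩
    rw [Subgroup.mem_center_iff]
    have hc : (x⁻¹ * y : SU25).1.1 = l • 1 := by
      rw [coe_mul_eq, hl, Matrix.mul_smul, ← coe_mul_eq, inv_mul_cancel]
      rfl
    intro z
    refine Subtype.ext (Subtype.ext ?_)
    show z.1.1 * (x⁻¹ * y : SU25).1.1 = (x⁻¹ * y : SU25).1.1 * z.1.1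
    rw [hc, Matrix.mul_smul, Matrix.smul_mul, mul_one, one_mul]

/-- The image of a word. -/
def wImg (w : List Bool) : PSU25 := QuotientGroup.mk (wElt w)

theorem wImg_pow_eq_one {w : List Bool} {k : ℕ}
    (h : ∃ l : TwentyFive, wMat w ^ k = l • (1 : M25)) : wImg w ^ k = 1 := by
  rw [wImg, ← QuotientGroup.mk_pow]
  refine ((mk_eq_iff 1 _).2 ?_).symm
  obtain ⟨l, hl⟩ := h
  exact ⟨l, by rw [coe_pow_eq, coe_wElt, hl]; rfl⟩

theorem wImg_pow_ne (v w : List Bool) (k : ℕ)
    (h : ∀ l : TwentyFive, wMat w ≠ l • wMat v ^ k) : wImg v ^ k ≠ wImg w := by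
  rw [wImg, wImg, ← QuotientGroup.mk_pow, Ne, mk_eq_iff]
  rintro ⟨l, hl⟩
  rw [coe_pow_eq, coe_wElt, coe_wElt] at hl
  exact h l hl

theorem wImg_prime_order {w : List Bool} {p : ℕ} (hp : p.Prime)
    (h : ∃ l : TwentyFive, wMat w ^ p = l • (1 : M25))
    (h1 : ∀ l : TwentyFive, wMat w ≠ l • (1 : M25)) : orderOf (wImg w) = p := by
  haveI := Fact.mk hp
  refine orderOf_eq_prime (wImg_pow_eq_one h) fun he => wImg_pow_ne [] w 0 ?_ ?_
  · simpa [wMat] using h1
  · rw [pow_zero, he]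

/-- The subgroup. -/
def hSub : Subgroup PSU25 := Subgroup.closure {QuotientGroup.mk elA, QuotientGroup.mk elB}

theorem wImg_mem : ∀ w, wImg w ∈ hSub
  | [] => one_mem _
  | b :: w => by
    show QuotientGroup.mk (_ * wElt w) ∈ hSub
    rw [QuotientGroup.mk_mul]
    refine mul_mem (Subgroup.subset_closure ?_) (wImg_mem w)
    cases b <;> simp

/-- Stabilising the list of points. -/
def stabList : Submonoid SU25 where
  carrier := {g | ∀ v ∈ orbitList, ∃ w ∈ orbitList, ∃ l : TwentyFive,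
    g.1.1 *ᵥ ofTriple v = l • ofTriple w}
  one_mem' v hv := ⟨v, hv, 1, by
    rw [one_smul, OneMemClass.coe_one, Matrix.SpecialLinearGroup.coe_one, Matrix.one_mulVec]⟩
  mul_mem' {g h} hg hh v hv := by
    obtain ⟨w, hw, l, hl⟩ := hh v hv
    obtain ⟨u, hu, m, hm⟩ := hg w hw
    exact ⟨u, hu, l * m, by rw [coe_mul_eq, ← Matrix.mulVec_mulVec, hl, Matrix.mulVec_smul, hm, smul_smul]⟩

theorem witA_check : witA.map Prod.fst = orbitList ∧ (∀ t ∈ witA, t.2.1 ∈ orbitList) :=
  ⟨by decide +kernel, by decide +kernel⟩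

theorem witB_check : witB.map Prod.fst = orbitList ∧ (∀ t ∈ witB, t.2.1 ∈ orbitList) :=
  ⟨by decide +kernel, by decide +kernel⟩

theorem witA_eq : witA.all (fun t => decide (matA *ᵥ ofTriple t.1 =
    (⟨t.2.2⟩ : TwentyFive) • ofTriple t.2.1)) = true := by
  decide +kernel

theorem witB_eq : witB.all (fun t => decide (matB *ᵥ ofTriple t.1 =
    (⟨t.2.2⟩ : TwentyFive) • ofTriple t.2.1)) = true := by
  decide +kernel

theorem moved_mem : movedPt ∈ orbitList := by decide +kernel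

theorem moved_check : orbitList.all (fun w => decide (∀ l : TwentyFive,
    matG *ᵥ ofTriple movedPt ≠ l • ofTriple w)) = true := by
  decide +kernel

theorem gens_mem : elA ∈ stabList ∧ elB ∈ stabList := by
  obtain ⟨e1, hA⟩ := witA_check
  obtain ⟨e2, hB⟩ := witB_check
  constructor
  · intro v hv
    rw [← e1] at hv
    obtain ⟨t, ht, rfl⟩ := List.mem_map.1 hv
    exact ⟨t.2.1, hA t ht, _, of_decide_eq_true (List.all_eq_true.1 witA_eq t ht)⟩
  · intro v hv
    rw [← e2] at hv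
    obtain ⟨t, ht, rfl⟩ := List.mem_map.1 hv
    exact ⟨t.2.1, hB t ht, _, of_decide_eq_true (List.all_eq_true.1 witB_eq t ht)⟩

theorem hSub_ne_top : hSub ≠ ⊤ := by
  intro htop
  set W : Subgroup SU25 := Subgroup.closure {elA, elB} with hW
  have hmap : hSub = W.map (QuotientGroup.mk' (Subgroup.center SU25)) := by
    rw [hW, MonoidHom.map_closure, Set.image_pair]
    rfl
  have hg : (QuotientGroup.mk elG : PSU25) ∈ hSub := htop ▸ Subgroup.mem_top _
  rw [hmap] at hg
  obtain ⟨w, hw, hwg⟩ := hg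
  have hwS : w ∈ stabList := by
    have hw' : w ∈ W.toSubmonoid := hw
    rw [hW, Subgroup.closure_toSubmonoid_of_finite] at hw'
    refine (Submonoid.closure_le.2 ?_) hw'
    rintro z (rfl | rfl)
    exacts [gens_mem.1, gens_mem.2]
  obtain ⟨l, hl⟩ := (mk_eq_iff w elG).1 hwg
  obtain ⟨u, hu, m, hm⟩ := hwS movedPt moved_mem
  refine (of_decide_eq_true (List.all_eq_true.1 moved_check u hu)) (l * m) ?_
  show elG.1.1 *ᵥ ofTriple movedPt = _
  rw [hl, Matrix.smul_mulVec, hm, smul_smul]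

theorem mul_dvd_card {G : Type*} [Group G] [Finite G] (H : Subgroup G) {r s : G} {k p : ℕ}
    (hp : p.Prime) (hr : r ∈ H) (hs : s ∈ H) (hk : orderOf r = k) (hsp : orderOf s = p)
    (hnorm : s * r * s⁻¹ ∈ Subgroup.zpowers r) (hns : s ∉ Subgroup.zpowers r) :
    k * p ∣ Nat.card H := by
  set R := Subgroup.zpowers r with hR
  have hsN : s ∈ Subgroup.normalizer (R : Set G) := by
    have hmap : R.map (MulAut.conj s).toMonoidHom = R := by
      refine Subgroup.eq_of_le_of_card_ge ?_ ?_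
      · rw [hR, MonoidHom.map_zpowers, Subgroup.zpowers_le]
        exact hnorm
      · rw [← Nat.card_congr (R.equivMapOfInjective (MulAut.conj s).toMonoidHom
          (MulAut.conj s).injective).toEquiv]
    rw [Subgroup.mem_normalizer_iff]
    intro z
    conv_rhs => rw [← hmap]
    simp [Subgroup.mem_map]
  set S := Subgroup.zpowers s with hS
  have hJ : S ⊔ R ≤ Subgroup.normalizer (R : Set G) :=
    sup_le (Subgroup.zpowers_le.2 hsN) Subgroup.le_normalizer
  haveI : (R.subgroupOf (S ⊔ R)).Normal := Subgroup.normal_subgroupOf_of_le_normalizer hJ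
  have hidx : R.relIndex S = p := by
    rw [Subgroup.relIndex]
    have h1 := Subgroup.card_mul_index (R.subgroupOf S)
    have hbot : R.subgroupOf S = ⊥ := by
      rcases (hp.eq_one_or_self_of_dvd _ (Dvd.intro _ (h1.trans (by rw [hS, Nat.card_zpowers, hsp]))))
        with h | h
      · exact Subgroup.eq_bot_of_card_eq _ h
      · exfalso
        apply hns
        have : R.subgroupOf S = ⊤ := Subgroup.eq_top_of_card_eq _ (by rw [h, hS, Nat.card_zpowers, hsp])
        exact Subgroup.subgroupOf_eq_top.1 this (Subgroup.mem_zpowers s)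
    rw [hbot, Subgroup.index_bot, hS, Nat.card_zpowers, hsp]
  have hcard : k * p = Nat.card ↥(S ⊔ R) := by
    rw [← Subgroup.card_mul_index (R.subgroupOf (S ⊔ R)),
      Nat.card_congr (Subgroup.subgroupOfEquivOfLe le_sup_right).toEquiv, hR, Nat.card_zpowers, hk,
      ← hR, ← Subgroup.relIndex, ← hidx]
    congr 1
    rw [Subgroup.relIndex, Subgroup.relIndex]
    exact Nat.card_congr
      (QuotientGroup.quotientInfEquivProdNormalizerQuotient S R (Subgroup.zpowers_le.2 hsN)).toEquiv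
  rw [hcard]
  exact Subgroup.card_dvd_of_le (sup_le (Subgroup.zpowers_le.2 hs) (Subgroup.zpowers_le.2 hr))

theorem mem_zpowers_cases {G : Type*} [Group G] [Finite G] {r x : G} {k : ℕ} (hk : orderOf r = k)
    (h : x ∈ Subgroup.zpowers r) : ∃ i < k, r ^ i = x := by
  classical
  obtain ⟨i, hi, e⟩ := Finset.mem_image.1 ((isOfFinOrder_of_finite r).mem_zpowers_iff_mem_range_orderOf.1 h)
  exact ⟨i, hk ▸ Finset.mem_range.1 hi, e⟩

theorem data_check :
    ((∃ l : TwentyFive, wMat word_x7 ^ 7 = l • (1 : M25)) ∧ ∀ l : TwentyFive, wMat word_x7 ≠ l • (1 : M25)) ∧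
    ((∃ l : TwentyFive, wMat word_x5 ^ 5 = l • (1 : M25)) ∧ ∀ l : TwentyFive, wMat word_x5 ≠ l • (1 : M25)) ∧
    ((∃ l : TwentyFive, wMat word_c ^ 3 = l • (1 : M25)) ∧ ∀ l : TwentyFive, wMat word_c ≠ l • (1 : M25)) ∧
    ((∃ l : TwentyFive, wMat word_d ^ 3 = l • (1 : M25)) ∧ ∀ l : TwentyFive, wMat word_d ≠ l • (1 : M25)) ∧
    ((∃ l : TwentyFive, wMat word_r4 ^ 4 = l • (1 : M25)) ∧
      ∀ l : TwentyFive, wMat word_r4 ^ 2 ≠ l • (1 : M25)) ∧
    ((∃ l : TwentyFive, wMat word_s2 ^ 2 = l • (1 : M25)) ∧ ∀ l : TwentyFive, wMat word_s2 ≠ l • (1 : M25)) ∧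
    (∀ i : Fin 3, ∀ l : TwentyFive, wMat word_d ≠ l • wMat word_c ^ (i : ℕ)) ∧
    (∀ i : Fin 4, ∀ l : TwentyFive, wMat word_s2 ≠ l • wMat word_r4 ^ (i : ℕ)) ∧
    (∃ l : TwentyFive, wMat word_c * wMat word_d = l • (wMat word_d * wMat word_c)) ∧
    ∃ l : TwentyFive,
      wMat word_r4 ^ 3 * wMat word_s2 = l • (wMat word_s2 * wMat word_r4) := by
  decide +kernel

theorem dvd_card_hSub : 2520 ∣ Nat.card hSub := by
  obtain ⟨⟨a7, b7⟩, ⟨a5, b5⟩, ⟨ac, bc⟩, ⟨ad, bd⟩, ⟨ar, br⟩, ⟨as, bs⟩, hcd, hrs, hcomm, hdih⟩ := data_check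
  have hc : orderOf (wImg word_c) = 3 := wImg_prime_order (by norm_num) ac bc
  have hd : orderOf (wImg word_d) = 3 := wImg_prime_order (by norm_num) ad bd
  have hs : orderOf (wImg word_s2) = 2 := wImg_prime_order (by norm_num) as bs
  have hr : orderOf (wImg word_r4) = 4 := by
    haveI : Fact (Nat.Prime 2) := ⟨Nat.prime_two⟩
    refine orderOf_eq_prime_pow (p := 2) (n := 1) ?_ (wImg_pow_eq_one ar)
    intro he
    rw [pow_one, wImg, ← QuotientGroup.mk_pow] at he
    obtain ⟨l, hl⟩ := (mk_eq_iff 1 _).1 he.symm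
    rw [coe_pow_eq, coe_wElt] at hl
    exact br l hl
  have h9 : 3 * 3 ∣ Nat.card hSub := by
    refine mul_dvd_card hSub (by norm_num) (wImg_mem _) (wImg_mem _) hc hd ?_ fun h => ?_
    · have e : wImg word_d * wImg word_c = wImg word_c * wImg word_d := by
        rw [wImg, wImg, ← QuotientGroup.mk_mul, ← QuotientGroup.mk_mul, mk_eq_iff]
        simpa only [coe_mul_eq, coe_wElt] using hcomm
      rw [e, mul_inv_cancel_right]
      exact Subgroup.mem_zpowers _
    · obtain ⟨i, hi, e⟩ := mem_zpowers_cases hc h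
      exact wImg_pow_ne _ _ i (hcd ⟨i, hi⟩) e
  have h8 : 4 * 2 ∣ Nat.card hSub := by
    refine mul_dvd_card hSub Nat.prime_two (wImg_mem _) (wImg_mem _) hr hs ?_ fun h => ?_
    · have e : wImg word_s2 * wImg word_r4 = wImg word_r4 ^ 3 * wImg word_s2 := by
        rw [wImg, wImg, ← QuotientGroup.mk_pow, ← QuotientGroup.mk_mul, ← QuotientGroup.mk_mul,
          mk_eq_iff]
        simpa only [coe_mul_eq, coe_pow_eq, coe_wElt] using hdih
      rw [e, mul_inv_cancel_right]
      exact pow_mem (Subgroup.mem_zpowers _) 3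
    · obtain ⟨i, hi, e⟩ := mem_zpowers_cases hr h
      exact wImg_pow_ne _ _ i (hrs ⟨i, hi⟩) e
  have h7 : 7 ∣ Nat.card hSub := by
    exact (dvd_of_eq (wImg_prime_order (by norm_num) a7 b7).symm).trans
      (Subgroup.orderOf_dvd_natCard _ (wImg_mem _))
  have h5 : 5 ∣ Nat.card hSub := by
    exact (dvd_of_eq (wImg_prime_order (by norm_num) a5 b5).symm).trans
      (Subgroup.orderOf_dvd_natCard _ (wImg_mem _))
  have h1 := Nat.Coprime.mul_dvd_of_dvd_of_dvd (by norm_num) (Nat.Coprime.mul_dvd_of_dvd_of_dvd (by norm_num) h8 h9)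
    (Nat.Coprime.mul_dvd_of_dvd_of_dvd (by norm_num) h5 h7)
  exact h1

end Cfsg.Agent.Lib.MinIndexU35
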