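import Mathlib
import Cfsg.Prelude.Def_Classical
import Cfsg.Agent.S0280
import Cfsg.Agent.S0283
import Cfsg.Agent.S2366
import Cfsg.Agent.Lib.QdP.UnitaryThree
import Cfsg.Agent.Lib.Classical.UnitaryCentre
import Cfsg.Agent.Lib.PSUThreeTwo.Transport
import Cfsg.Agent.Lib.MinIndexU35.Bound
import Cfsg.Agent.Lib.MinIndexU35.Exists

/-!
# The minimal index of a proper subgroup of PSU3(5)
-/

set_option autoImplicit false

namespace Cfsg.Agent.Lib.MinIndexU35

open Cfsg.Agent.Lib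

variable {F : Type*} [Field F] [Fintype F]

theorem card_psu_five (hF : Fintype.card F = 5 ^ 2) : Nat.card (Cfsg.PSU 3 F 5) = 126000 := by
  have h := Cfsg.Agent.S0280.result hF 3 (by norm_num)
  simp [Finset.prod_range_succ] at h
  omega

theorem ti_psu_five [CharP F 5] (hF : Fintype.card F = 5 ^ 2) (x : Cfsg.PSU 3 F 5) (hx : x ≠ 1)
    (P Q : Sylow 5 (Cfsg.PSU 3 F 5)) (hP : x ∈ (P : Subgroup (Cfsg.PSU 3 F 5)))
    (hQ : x ∈ (Q : Subgroup (Cfsg.PSU 3 F 5))) : P = Q := by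
  haveI : Fact (Nat.Prime 5) := ⟨by norm_num⟩
  set Z := Subgroup.center (Cfsg.SU 3 F 5) with hZdef
  have hf := QuotientGroup.mk'_surjective Z
  obtain ⟨S, rfl⟩ := Sylow.mapSurjective_surjective hf 5 P
  obtain ⟨T, rfl⟩ := Sylow.mapSurjective_surjective hf 5 Q
  rw [Sylow.coe_mapSurjective] at hP hQ
  obtain ⟨s, hs, rfl⟩ := hP
  obtain ⟨t, ht, hst⟩ := hQ
  have hz : s⁻¹ * t ∈ Z := QuotientGroup.eq.1 hst.symm
  have hst' : Commute s⁻¹ t := by
    have := Subgroup.mem_center_iff.1 hz s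
    show s⁻¹ * t = t * s⁻¹
    calc s⁻¹ * t = s * (s⁻¹ * t) * s⁻¹ := by rw [this, mul_inv_cancel_right]
      _ = t * s⁻¹ := by rw [mul_inv_cancel_left]
  obtain ⟨i, hi⟩ := S.2 ⟨s, hs⟩
  obtain ⟨j, hj⟩ := T.2 ⟨t, ht⟩
  have hi' : s ^ 5 ^ i = 1 := congrArg Subtype.val hi
  have hj' : t ^ 5 ^ j = 1 := congrArg Subtype.val hj
  have h5 : (s⁻¹ * t) ^ 5 ^ (i + j) = 1 := by
    rw [hst'.mul_pow, inv_pow, pow_add, pow_mul, hi', one_pow, inv_one, one_mul, mul_comm, pow_mul,
      hj', one_pow]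
  have h3 : (s⁻¹ * t) ^ 3 = 1 := by
    have hc : Nat.card Z = 3 := by
      rw [hZdef, Classical.natCard_center_SU hF 3 (by norm_num)]; norm_num
    have := pow_card_eq_one' (x := (⟨s⁻¹ * t, hz⟩ : Z))
    rw [hc] at this
    exact congrArg Subtype.val this
  have he : s = t := by
    have hd1 := orderOf_dvd_of_pow_eq_one h5
    have hd2 := orderOf_dvd_of_pow_eq_one h3
    have : orderOf (s⁻¹ * t) = 1 := by
      apply Nat.eq_one_of_dvd_coprimes _ hd1 hd2
      exact Nat.Coprime.pow_left _ (by norm_num)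
    exact inv_mul_eq_one.1 (orderOf_eq_one_iff.1 this)
  subst he
  have hne : Subgroup.zpowers s ≠ ⊥ := by
    rw [Ne, Subgroup.zpowers_eq_bot]
    rintro rfl
    exact hx (map_one _)
  have hST : S = T := QdP.Unitary.sylow_unique hF (by norm_num) (Subgroup.zpowers s)
    (S.2.to_le (Subgroup.zpowers_le.2 hs)) hne S T (Subgroup.zpowers_le.2 hs) (Subgroup.zpowers_le.2 ht)
  rw [hST]

theorem seven_psu_five [CharP F 5] (hF : Fintype.card F = 5 ^ 2) (x : Cfsg.PSU 3 F 5)
    (hx : orderOf x = 7) :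
    Subgroup.centralizer (Subgroup.zpowers x : Set (Cfsg.PSU 3 F 5)) = Subgroup.zpowers x := by
  haveI : Fact (Nat.Prime 5) := ⟨by norm_num⟩
  haveI : Fact (Nat.Prime 7) := ⟨by norm_num⟩
  set C := Subgroup.centralizer (Subgroup.zpowers x : Set (Cfsg.PSU 3 F 5)) with hC
  have hle : Subgroup.zpowers x ≤ C := Subgroup.le_centralizer (Subgroup.zpowers x)
  have hspec : ∀ y : Cfsg.PSU 3 F 5, orderOf y ∈ ({6, 10, 8, 7} : Finset ℕ).biUnion Nat.divisors := by
    intro y
    have h : orderOf y ∈ Set.range (orderOf : Cfsg.PSU 3 F 5 → ℕ) := ⟨y, rfl⟩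
    rw [Cfsg.Agent.S2366.result 5 (by norm_num) 5 hF] at h
    norm_num at h
    simp only [Finset.mem_biUnion, Nat.mem_divisors, Finset.mem_insert, Finset.mem_singleton]
    rcases h with ((h | h) | h) | h
    · exact ⟨6, Or.inl rfl, h, by norm_num⟩
    · exact ⟨10, Or.inr (Or.inl rfl), h, by norm_num⟩
    · exact ⟨8, Or.inr (Or.inr (Or.inl rfl)), h, by norm_num⟩
    · exact ⟨7, Or.inr (Or.inr (Or.inr rfl)), h, by norm_num⟩
  have hprime : ∀ r : ℕ, r.Prime → r ∣ Nat.card C → r = 7 := by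
    intro r hr hdvd
    haveI := Fact.mk hr
    obtain ⟨⟨y, hy⟩, hyr⟩ := exists_prime_orderOf_dvd_card' r hdvd
    rw [Subgroup.orderOf_mk] at hyr
    by_contra hne
    have hcomm : Commute x y := Subgroup.mem_centralizer_iff.1 hy x (Subgroup.mem_zpowers x)
    have hcop : (orderOf x).Coprime (orderOf y) := by
      rw [hx, hyr]; exact (Nat.coprime_primes (by norm_num) hr).2 (Ne.symm hne)
    have h := hspec (x * y)
    rw [hcomm.orderOf_mul_eq_mul_orderOf_of_coprime hcop, hx, hyr] at h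
    simp only [Finset.mem_biUnion, Finset.mem_insert, Finset.mem_singleton, Nat.mem_divisors] at h
    obtain ⟨m, hm, hdm, -⟩ := h
    have h2 := hr.two_le
    have h7m : 7 ∣ m := (dvd_mul_right 7 r).trans hdm
    rcases hm with rfl | rfl | rfl | rfl <;> try omega
    have := Nat.le_of_dvd (by norm_num) hdm
    omega
  have hcard : Nat.card C ∣ 7 := by
    have hd : Nat.card C ∣ 126000 := card_psu_five hF ▸ C.card_subgroup_dvd_card
    have hpos : Nat.card C ≠ 0 := Nat.card_pos.ne'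
    have hpow := Nat.eq_prime_pow_of_unique_prime_dvd hpos (fun hr hd' => hprime _ hr hd')
    rcases Nat.lt_or_ge (Nat.card C).primeFactorsList.length 2 with h | h
    · rw [hpow]
      exact (pow_dvd_pow 7 (Nat.le_of_lt_succ h)).trans (by norm_num)
    · exfalso
      have h49 : 7 ^ 2 ∣ 126000 := by
        refine dvd_trans ?_ hd
        rw [hpow]
        exact pow_dvd_pow 7 h
      norm_num at h49
  refine (Subgroup.eq_of_le_of_card_ge hle ?_).symm
  rw [Nat.card_zpowers, hx]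
  exact Nat.le_of_dvd (by norm_num) hcard

/-- The main statement. -/
theorem min_index (hF : Fintype.card F = 25) :
    (∀ H : Subgroup (Cfsg.PSU 3 F 5), H ≠ ⊤ → 50 ≤ H.index) ∧
      ∃ H : Subgroup (Cfsg.PSU 3 F 5), H.index = 50 := by
  have hF' : Fintype.card F = 5 ^ 2 := by rw [hF]; norm_num
  haveI : Fact (Nat.Prime 5) := ⟨by norm_num⟩
  haveI : CharP F 5 := by
    obtain ⟨p, hp⟩ := CharP.exists F
    obtain ⟨n, hpp, hn⟩ := FiniteField.card F p
    have : p ∣ 5 ^ 2 := by rw [← hF', hn]; exact dvd_pow_self p n.pos.ne'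
    have := (Nat.prime_dvd_prime_iff_eq hpp (by norm_num)).1 (hpp.dvd_of_dvd_pow this)
    exact this ▸ hp
  haveI : IsSimpleGroup (Cfsg.PSU 3 F 5) := Cfsg.Agent.S0283.result hF' 3 le_rfl (by norm_num)
  have hb : ∀ H : Subgroup (Cfsg.PSU 3 F 5), H ≠ ⊤ → 50 ≤ H.index := fun H hH =>
    index_ge (card_psu_five hF') (ti_psu_five hF') (seven_psu_five hF') H hH
  refine ⟨hb, ?_⟩
  let e := PSUThreeTwo.psuMap (n := 3) (q := 5)
    (FiniteField.ringEquivOfCardEq (K := TwentyFive) (K' := F) (card_twentyFive.trans hF'.symm))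
  let H := hSub.map e.toMonoidHom
  have hne : H ≠ ⊤ := by
    intro h
    apply hSub_ne_top
    apply Subgroup.map_injective (f := e.toMonoidHom) e.injective
    exact h.trans (Subgroup.map_top_of_surjective e.toMonoidHom e.surjective).symm
  have hd : 2520 ∣ Nat.card H := by
    rw [← Nat.card_congr (hSub.equivMapOfInjective e.toMonoidHom e.injective).toEquiv]
    exact dvd_card_hSub
  refine ⟨H, le_antisymm ?_ (hb H hne)⟩
  have h1 := H.card_mul_index
  rw [card_psu_five hF'] at h1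
  obtain ⟨c, hc⟩ := hd
  rw [hc] at h1
  have h2 : c * H.index = 50 := by nlinarith
  exact Nat.le_of_dvd (by norm_num) ⟨c, by rw [mul_comm]; exact h2.symm⟩

end Cfsg.Agent.Lib.MinIndexU35
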